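import Cfsg.Agent.Lib.CosetEnum.Defs

/-! Generated table data. -/

set_option autoImplicit false
set_option maxRecDepth 20000

namespace Cfsg.Lib.CosetEnum.LyG2.A

/-- Table data. -/
def tabC_0_0 : Tab :=
  (.node 8 (.node 4 (.node 2 (.node 1 (.leaf 0x10000340000c00002c0000a0000240000800001c0000700000000000) (.leaf 0x40000000001c0000200002000002)) (.node 1 (.leaf 0x4000010000380000200003800001) (.leaf 0x10000080000f0000200000300002400002))) (.node 2 (.node 1 (.leaf 0x100000c000100000340000300003400001) (.leaf 0x1000010000110000240000300002800002)) (.node 1 (.leaf 0x1000014000120000300000300003000001) (.leaf 0x1000018000130000280000300002c00002)))) (.node 4 (.node 2 (.node 1 (.leaf 0x40000f00001c0000200000000001) (.leaf 0x4000100000380000200000000002)) (.node 1 (.leaf 0x10000440000800003c0000300000400001) (.leaf 0x10000480000d0000400000300000800002))) (.node 2 (.node 1 (.leaf 0x100004c000090000440000300000c00001) (.leaf 0x10000500000c0000480000300001000002)) (.node 1 (.leaf 0x10000540000a00004c0000300001400001) (.leaf 0x10000540000b0000500000300001800002)))))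

/-- Table data. -/
def tabC_0 : Tab :=
  tabC_0_0

end Cfsg.Lib.CosetEnum.LyG2.A
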