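import Cfsg.Agent.Lib.CosetEnum.Defs

/-! Generated table data. -/

set_option autoImplicit false
set_option maxRecDepth 20000

namespace Cfsg.Lib.CosetEnum.LyG2.A

/-- Table data. -/
def tabF_0_0 : Tab :=
  (.leaf 0x380000c00000000000380000a600000000003000008000000000002800006600000000002000004000000000001800002600000000001000000000000000000800000600000000003800017f00000000003000019f00000000002800015f0000000000200001bf00000000001800013f0000000000100001df00000000000800011f0000000000700000000000000000680001c00000000000600001a00000000000580001800000000000500001600000000000480001400000000000400001200000000000000001000000000000280000e00000000000200000c60000000000180000a0000000000010000086000000000008000060000000000000000046000000000000000020)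

/-- Table data. -/
def tabF_0 : Tab :=
  tabF_0_0

end Cfsg.Lib.CosetEnum.LyG2.A
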