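import Cfsg.Agent.Lib.CosetEnum.Defs

/-! Generated table data. -/

set_option autoImplicit false
set_option maxRecDepth 20000

namespace Cfsg.Lib.CosetEnum.LyG2.A

/-- Table data. -/
def tabZ_0_0 : Tab :=
  (.node 1 (.leaf 0x1c00000000000000000000000000000000000000000000000000000000000000000000000000000000000000000000000000000000001b00000000000000000000000000000000000000000000000000000000000000000000000000000000000000000000000000000000001900000000000000000000000000000000000000000000000000000000000000000000000000000000000000000000000000000000001800000000000000000000000000000000000000000000000000000000000000000000000000000000000000000000000000000000001a000000000000000000000000000000000000000000000000000000000000000000000000000000000000000000000000000000000019000000000000000000000000000000000000000000000000000000000000000000000000000000000000000000000000000000000017000000000000000000000000000000000000000000000000000000000000000000000000000000000000000000000000000000000016000000000000000000000000000000000000000000000000000000000000000000000000000000000000000000000000000000000018000000000000000000000000000000000000000000000000000000000000000000000000000000000000000000000000000000000017000000000000000000000000000000000000000000000000000000000000000000000000000000000000000000000000000000000016) (.leaf 0x1c00000000000000000000000000000000000000000000000000000000000000000000000000000000000000000000000000000000001d00000000000000000000000000000000000000000000000000000000000000000000000000000000000000000000000000000000001d00000000000000000000000000000000000000000000000000000000000000000000000000000000000000000000000000000000001b00000000000000000000000000000000000000000000000000000000000000000000000000000000000000000000000000000000001a000000000000000000000000000000000000))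

/-- Table data. -/
def tabZ_0 : Tab :=
  tabZ_0_0

end Cfsg.Lib.CosetEnum.LyG2.A
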