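import Cfsg.Agent.Lib.CosetEnum.LyG2.A.DefsPart0
import Cfsg.Agent.Lib.CosetEnum.LyG2.A.LabsPart0
import Cfsg.Agent.Lib.CosetEnum.LyG2.A.StepsPart0
import Cfsg.Agent.Lib.CosetEnum.LyG2.A.ClosedPart0

/-! Generated certificate. -/

set_option autoImplicit false
set_option maxRecDepth 20000

namespace Cfsg.Lib.CosetEnum.LyG2.A

theorem step_valid : step.Valid where
  pos := by decide +kernel
  defs := defs_0
  labs := labs_0
  steps := steps_0
  closed := closed_0

end Cfsg.Lib.CosetEnum.LyG2.A
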